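import Cfsg.Agent.Lib.CosetCert.D.Ru.Tbl
import Cfsg.Agent.Lib.CosetCert.D.Ru.Lv1.CT

namespace Cfsg.Agent.Lib.CosetCert.D.Ru.Lv1.Tab

open Cfsg.Agent.Lib.CosetCert Cfsg.Agent.Lib.TC.Core Cfsg.Agent.Lib.TC.Enc Cfsg.Agent.Lib.TC.Pres Cfsg.Agent.Lib.TC.Perm Cfsg.Agent.Lib.TC.Main

set_option maxRecDepth 100000

open Cfsg.Agent.Lib.CosetCert.D.Ru.Tbl

/-- The chunks. -/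
noncomputable def ctree : Tr Nat := Cfsg.Agent.Lib.CosetCert.D.Ru.Lv1.CT.tree

/-- The relator rotations. -/
noncomputable def rotT : Tr (List Nat) := (Tr.node (Tr.node (Tr.node (Tr.node (Tr.node (Tr.node (Tr.node (Tr.node (Tr.leaf []) (Tr.leaf [2,2,2,2,2,0,1,1,1,1,1,0,2,2,2,2,2,0,1,1,1,1,1,0])) (Tr.node (Tr.leaf [0,1,0,2,0,1,0,2,0,2,0,1,0,1,0,2,0,1,0,2,0,2,0,1]) (Tr.leaf [1,0,1,1,0,1,0,2,0,1,0,1,1,0,2,2,2,2,2,2,2,0,1,1,0,1]))) (Tr.node (Tr.node (Tr.leaf [0,2,2,2,2,0,1,1,1,1,0,2,2,2,2,0,1,1,1,1]) (Tr.leaf [0,1,0,2,0,1,0,2,0,2,0,1,1,0,2,0,1,0,2,0,1,0,2,2,0,1])) (Tr.node (Tr.leaf [1,0,1,1,0,1,1,0,1,1,0,1,1,0,1,1,0,1,1,0,1,1,0,1]) (Tr.leaf [2,0,1,0,2,0,2,2,0,2,2,0,2,2,0,1,1,1,1,1,1,1,0,2,2,0])))) (Tr.node (Tr.node (Tr.node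 (Tr.leaf [1,0,2,0,1,0,2,0,1,0,2,0,1,0,2,0,1,0,2,0]) (Tr.leaf [2,2,2,0,2,2,2,2,0,2,2,2,2,0,2,2,2,2,0,2,2,2,2,0,2])) (Tr.node (Tr.leaf [1,0,1,1,0,1,1,0,1,1,0,1,1,0,1,1,0,1,1,0,1,1,0,1]) (Tr.leaf [2,0,2,2,0,1,1,1,1,1,1,1,0,2,2,0,2,0,1,0,2,0,2,2,0,2]))) (Tr.node (Tr.node (Tr.leaf [2,2,2,0,1,1,1,1,0,2,2,2,2,0,1,1,1,1,0,2]) (Tr.leaf [0,1,1,0,2,2,2,2,2,2,2,0,1,1,0,1,1,0,1,1,0,1,0,2,0,1])) (Tr.node (Tr.leaf [0,1,1,1,1,1,0,2,2,2,2,2,0,1,1,1,1,1,0,2,2,2,2,2]) (Tr.leaf []))))) (Tr.node (Tr.node (Tr.node (Tr.node (Tr.leaf [0,2,0,2,0,2,0,2,0,2,0,2,0,2,0,2]) (Tr.leaf [1,1,0,1,1,1,1,0,1,1,1,1,0,1,1,1,1,0,1,1,1,1,0,1,1])) (Tr.node (Tr.leaf [0,2,0,1,0,1,0,2,0,1,0,2,0,2,0,1,0,1,0,2,0,1,0,2]) (Tr.leaf [1,0,2,0,2,2,0,2,2,0,2,2,0,1,1,1,1,1,1,1,0,2,2,0,2,0])))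 (Tr.node (Tr.node (Tr.leaf [1,1,0,2,2,2,2,0,1,1,1,1,0,2,2,2,2,0,1,1]) (Tr.leaf [1,0,2,0,1,0,2,2,0,1,0,1,0,2,0,1,0,2,0,2,0,1,1,0,2,0])) (Tr.node (Tr.leaf [2,2,0,2,2,0,2,2,0,2,2,0,2,2,0,2,2,0,2,2,0,2,2,0]) (Tr.leaf [])))) (Tr.node (Tr.node (Tr.node (Tr.leaf [2,0,1,0,2,0,1,0,2,0,1,0,2,0,1,0,2,0,1,0]) (Tr.leaf [2,0,2,2,2,2,0,2,2,2,2,0,2,2,2,2,0,2,2,2,2,0,2,2,2])) (Tr.node (Tr.leaf [1,0,1,1,0,1,1,0,1,1,0,1,1,0,1,1,0,1,1,0,1,1,0,1]) (Tr.leaf [1,1,1,1,0,2,2,0,2,0,1,0,2,0,2,2,0,2,2,0,2,2,0,1,1,1]))) (Tr.node (Tr.node (Tr.leaf [2,2,2,2,2,2,2,2,2,2,2,2,2,2,2,2,2,2,2,2]) (Tr.leaf [2,2,2,0,1,1,0,1,1,0,1,1,0,1,0,2,0,1,0,1,1,0,2,2,2,2])) (Tr.node (Tr.leaf [2,2,2,2,0,1,1,1,1,1,0,2,2,2,2,2,0,1,1,1,1,1,0,2]) (Tr.leaf [])))))) (Tr.node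 (Tr.node (Tr.node (Tr.node (Tr.node (Tr.leaf [0,1,0,1,0,1,0,1,0,1,0,1,0,1,0,1]) (Tr.leaf [1,1,0,2,2,2,2,2,0,1,1,1,1,1,0,2,2,2,2,2,0,1,1,1])) (Tr.node (Tr.leaf [0,1,0,2,0,2,0,1,0,1,0,2,0,1,0,2,0,2,0,1,0,1,0,2]) (Tr.leaf [0,1,0,2,0,1,0,1,1,0,2,2,2,2,2,2,2,0,1,1,0,1,1,0,1,1]))) (Tr.node (Tr.node (Tr.leaf [2,0,1,1,1,1,0,2,2,2,2,0,1,1,1,1,0,2,2,2]) (Tr.leaf [1,0,2,0,1,0,2,0,1,0,2,2,0,1,0,1,0,2,0,1,0,2,0,2,0,1])) (Tr.node (Tr.leaf [2,2,0,2,2,0,2,2,0,2,2,0,2,2,0,2,2,0,2,2,0,2,2,0]) (Tr.leaf [2,1])))) (Tr.node (Tr.node (Tr.node (Tr.leaf [1,0,2,0,1,0,2,0,1,0,2,0,1,0,2,0,1,0,2,0]) (Tr.leaf [2,2,2,2,0,2,2,2,2,0,2,2,2,2,0,2,2,2,2,0,2,2,2,2,0])) (Tr.node (Tr.leaf [0,1,1,0,1,1,0,1,1,0,1,1,0,1,1,0,1,1,0,1,1,0,1,1]) (Tr.leaf [0,1,1,1,1,1,1,1,0,2,2,0,2,0,1,0,2,0,2,2,0,2,2,0,2,2])))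 (Tr.node (Tr.node (Tr.leaf [1,1,1,1,1,1,1,1,1,1,1,1,1,1,1,1,1,1,1,1]) (Tr.leaf [2,2,2,2,2,2,2,0,1,1,0,1,1,0,1,1,0,1,0,2,0,1,0,1,1,0])) (Tr.node (Tr.leaf [1,1,0,2,2,2,2,2,0,1,1,1,1,1,0,2,2,2,2,2,0,1,1,1]) (Tr.leaf []))))) (Tr.node (Tr.node (Tr.node (Tr.node (Tr.leaf [2,0,2,0,2,0,2,0,2,0,2,0,2,0,2,0]) (Tr.leaf [1,1,0,1,1,1,1,0,1,1,1,1,0,1,1,1,1,0,1,1,1,1,0,1,1])) (Tr.node (Tr.leaf [2,0,1,0,2,0,2,0,1,0,1,0,2,0,1,0,2,0,2,0,1,0,1,0]) (Tr.leaf [2,2,0,2,2,0,2,2,0,1,1,1,1,1,1,1,0,2,2,0,2,0,1,0,2,0]))) (Tr.node (Tr.node (Tr.leaf [2,2,2,0,1,1,1,1,0,2,2,2,2,0,1,1,1,1,0,2]) (Tr.leaf [2,2,0,1,0,1,0,2,0,1,0,2,0,2,0,1,1,0,2,0,1,0,2,0,1,0])) (Tr.node (Tr.leaf [2,2,0,2,2,0,2,2,0,2,2,0,2,2,0,2,2,0,2,2,0,2,2,0]) (Tr.leaf [])))) (Tr.node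 (Tr.node (Tr.node (Tr.leaf [1,1,1,1,0,2,2,2,2,0,1,1,1,1,0,2,2,2,2,0]) (Tr.leaf [2,0,2,2,2,2,0,2,2,2,2,0,2,2,2,2,0,2,2,2,2,0,2,2,2])) (Tr.node (Tr.leaf [0,1,1,0,1,1,0,1,1,0,1,1,0,1,1,0,1,1,0,1,1,0,1,1]) (Tr.leaf [0,2,2,0,2,0,1,0,2,0,2,2,0,2,2,0,2,2,0,1,1,1,1,1,1,1]))) (Tr.node (Tr.node (Tr.leaf [2,2,2,2,2,2,2,2,2,2,2,2,2,2,2,2,2,2,2,2]) (Tr.leaf [1,1,0,1,1,0,1,1,0,1,0,2,0,1,0,1,1,0,2,2,2,2,2,2,2,0])) (Tr.node (Tr.leaf [0,1,1,1,1,1,0,2,2,2,2,2,0,1,1,1,1,1,0,2,2,2,2,2]) (Tr.leaf []))))))) (Tr.node (Tr.node (Tr.node (Tr.node (Tr.node (Tr.node (Tr.leaf [0,1,0,1,0,1,0,1,0,1,0,1,0,1,0,1]) (Tr.leaf [2,2,0,1,1,1,1,1,0,2,2,2,2,2,0,1,1,1,1,1,0,2,2,2])) (Tr.node (Tr.leaf [0,2,0,1,0,2,0,2,0,1,0,1,0,2,0,1,0,2,0,2,0,1,0,1]) (Tr.leaf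 [1,1,0,1,0,2,0,1,0,1,1,0,2,2,2,2,2,2,2,0,1,1,0,1,1,0]))) (Tr.node (Tr.node (Tr.leaf [2,2,2,0,1,1,1,1,0,2,2,2,2,0,1,1,1,1,0,2]) (Tr.leaf [0,1,1,0,2,0,1,0,2,0,1,0,2,2,0,1,0,1,0,2,0,1,0,2,0,2])) (Tr.node (Tr.leaf [2,0,2,2,0,2,2,0,2,2,0,2,2,0,2,2,0,2,2,0,2,2,0,2]) (Tr.leaf [0,0])))) (Tr.node (Tr.node (Tr.node (Tr.leaf [2,0,1,0,2,0,1,0,2,0,1,0,2,0,1,0,2,0,1,0]) (Tr.leaf [2,0,2,2,2,2,0,2,2,2,2,0,2,2,2,2,0,2,2,2,2,0,2,2,2])) (Tr.node (Tr.leaf [1,1,0,1,1,0,1,1,0,1,1,0,1,1,0,1,1,0,1,1,0,1,1,0]) (Tr.leaf [2,2,0,1,1,1,1,1,1,1,0,2,2,0,2,0,1,0,2,0,2,2,0,2,2,0]))) (Tr.node (Tr.node (Tr.leaf [1,1,1,1,1,1,1,1,1,1,1,1,1,1,1,1,1,1,1,1]) (Tr.leaf [1,0,2,2,2,2,2,2,2,0,1,1,0,1,1,0,1,1,0,1,0,2,0,1,0,1])) (Tr.node (Tr.leaf [1,1,1,1,0,2,2,2,2,2,0,1,1,1,1,1,0,2,2,2,2,2,0,1])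 (Tr.leaf []))))) (Tr.node (Tr.node (Tr.node (Tr.node (Tr.leaf [0,2,0,2,0,2,0,2,0,2,0,2,0,2,0,2]) (Tr.leaf [0,1,1,1,1,0,1,1,1,1,0,1,1,1,1,0,1,1,1,1,0,1,1,1,1])) (Tr.node (Tr.leaf [0,1,0,1,0,2,0,1,0,2,0,2,0,1,0,1,0,2,0,1,0,2,0,2]) (Tr.leaf [2,0,2,2,0,2,2,0,2,2,0,1,1,1,1,1,1,1,0,2,2,0,2,0,1,0]))) (Tr.node (Tr.node (Tr.leaf [0,2,2,2,2,0,1,1,1,1,0,2,2,2,2,0,1,1,1,1]) (Tr.leaf [2,0,1,0,2,2,0,1,0,1,0,2,0,1,0,2,0,2,0,1,1,0,2,0,1,0])) (Tr.node (Tr.leaf [2,0,2,2,0,2,2,0,2,2,0,2,2,0,2,2,0,2,2,0,2,2,0,2]) (Tr.leaf [])))) (Tr.node (Tr.node (Tr.node (Tr.leaf [2,0,1,0,2,0,1,0,2,0,1,0,2,0,1,0,2,0,1,0]) (Tr.leaf [2,2,2,0,2,2,2,2,0,2,2,2,2,0,2,2,2,2,0,2,2,2,2,0,2])) (Tr.node (Tr.leaf [1,1,0,1,1,0,1,1,0,1,1,0,1,1,0,1,1,0,1,1,0,1,1,0])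 (Tr.leaf [1,1,0,2,2,0,2,0,1,0,2,0,2,2,0,2,2,0,2,2,0,1,1,1,1,1]))) (Tr.node (Tr.node (Tr.leaf [2,2,2,2,2,2,2,2,2,2,2,2,2,2,2,2,2,2,2,2]) (Tr.leaf [2,0,1,1,0,1,1,0,1,1,0,1,0,2,0,1,0,1,1,0,2,2,2,2,2,2])) (Tr.node (Tr.leaf [2,2,0,1,1,1,1,1,0,2,2,2,2,2,0,1,1,1,1,1,0,2,2,2]) (Tr.leaf [])))))) (Tr.node (Tr.node (Tr.node (Tr.node (Tr.node (Tr.leaf [0,1,0,1,0,1,0,1,0,1,0,1,0,1,0,1]) (Tr.leaf [1,1,1,1,0,1,1,1,1,0,1,1,1,1,0,1,1,1,1,0,1,1,1,1,0])) (Tr.node (Tr.leaf [0,2,0,2,0,1,0,1,0,2,0,1,0,2,0,2,0,1,0,1,0,2,0,1]) (Tr.leaf [0,2,0,1,0,1,1,0,2,2,2,2,2,2,2,0,1,1,0,1,1,0,1,1,0,1]))) (Tr.node (Tr.node (Tr.leaf [1,1,1,1,0,2,2,2,2,0,1,1,1,1,0,2,2,2,2,0]) (Tr.leaf [2,0,1,0,2,0,1,0,2,2,0,1,0,1,0,2,0,1,0,2,0,2,0,1,1,0])) (Tr.node (Tr.leaf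 [2,2,0,2,2,0,2,2,0,2,2,0,2,2,0,2,2,0,2,2,0,2,2,0]) (Tr.leaf [])))) (Tr.node (Tr.node (Tr.node (Tr.leaf [2,0,1,0,2,0,1,0,2,0,1,0,2,0,1,0,2,0,1,0]) (Tr.leaf [2,2,2,0,2,2,2,2,0,2,2,2,2,0,2,2,2,2,0,2,2,2,2,0,2])) (Tr.node (Tr.leaf [0,1,1,0,1,1,0,1,1,0,1,1,0,1,1,0,1,1,0,1,1,0,1,1]) (Tr.leaf [1,1,1,1,1,1,0,2,2,0,2,0,1,0,2,0,2,2,0,2,2,0,2,2,0,1]))) (Tr.node (Tr.node (Tr.leaf [1,1,1,1,1,1,1,1,1,1,1,1,1,1,1,1,1,1,1,1]) (Tr.leaf [2,2,2,2,2,0,1,1,0,1,1,0,1,1,0,1,0,2,0,1,0,1,1,0,2,2])) (Tr.node (Tr.leaf [0,2,2,2,2,2,0,1,1,1,1,1,0,2,2,2,2,2,0,1,1,1,1,1]) (Tr.leaf []))))) (Tr.node (Tr.node (Tr.node (Tr.node (Tr.leaf [0,2,0,2,0,2,0,2,0,2,0,2,0,2,0,2]) (Tr.leaf [1,1,1,0,1,1,1,1,0,1,1,1,1,0,1,1,1,1,0,1,1,1,1,0,1])) (Tr.node (Tr.leaf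 [0,1,1,0,1,1,0,1,1,0,1,1,0,1,1,0,1,1,0,1,1,0,1,1]) (Tr.leaf [0,2,2,0,2,2,0,1,1,1,1,1,1,1,0,2,2,0,2,0,1,0,2,0,2,2]))) (Tr.node (Tr.node (Tr.leaf [2,0,1,1,1,1,0,2,2,2,2,0,1,1,1,1,0,2,2,2]) (Tr.leaf [0,1,0,1,1,0,2,2,2,2,2,2,2,0,1,1,0,1,1,0,1,1,0,1,0,2])) (Tr.node (Tr.leaf [2,2,0,2,2,0,2,2,0,2,2,0,2,2,0,2,2,0,2,2,0,2,2,0]) (Tr.leaf [])))) (Tr.node (Tr.node (Tr.node (Tr.leaf [1,1,0,2,2,2,2,0,1,1,1,1,0,2,2,2,2,0,1,1]) (Tr.leaf [2,2,2,0,2,2,2,2,0,2,2,2,2,0,2,2,2,2,0,2,2,2,2,0,2])) (Tr.node (Tr.leaf [0,1,1,0,1,1,0,1,1,0,1,1,0,1,1,0,1,1,0,1,1,0,1,1]) (Tr.leaf [2,0,2,0,1,0,2,0,2,2,0,2,2,0,2,2,0,1,1,1,1,1,1,1,0,2]))) (Tr.node (Tr.node (Tr.leaf [2,2,2,2,2,2,2,2,2,2,2,2,2,2,2,2,2,2,2,2]) (Tr.leaf [0,1,1,0,1,1,0,1,0,2,0,1,0,1,1,0,2,2,2,2,2,2,2,0,1,1]))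 (Tr.node (Tr.leaf [1,1,1,1,0,2,2,2,2,2,0,1,1,1,1,1,0,2,2,2,2,2,0,1]) (Tr.leaf [])))))))) (Tr.node (Tr.node (Tr.node (Tr.node (Tr.node (Tr.node (Tr.node (Tr.leaf [1,0,1,0,1,0,1,0,1,0,1,0,1,0,1,0]) (Tr.leaf [2,2,2,2,0,1,1,1,1,1,0,2,2,2,2,2,0,1,1,1,1,1,0,2])) (Tr.node (Tr.leaf [1,0,2,0,1,0,2,0,2,0,1,0,1,0,2,0,1,0,2,0,2,0,1,0]) (Tr.leaf [0,1,1,0,1,0,2,0,1,0,1,1,0,2,2,2,2,2,2,2,0,1,1,0,1,1]))) (Tr.node (Tr.node (Tr.leaf [2,2,2,2,0,1,1,1,1,0,2,2,2,2,0,1,1,1,1,0]) (Tr.leaf [2,0,1,1,0,2,0,1,0,2,0,1,0,2,2,0,1,0,1,0,2,0,1,0,2,0])) (Tr.node (Tr.leaf [2,2,0,2,2,0,2,2,0,2,2,0,2,2,0,2,2,0,2,2,0,2,2,0]) (Tr.leaf [0,1,0,2,0,2,2,0,2,2,0,2,2,0,1,1,1,1,1,1,1,0,2,2,0,2])))) (Tr.node (Tr.node (Tr.node (Tr.leaf [0,2,0,1,0,2,0,1,0,2,0,1,0,2,0,1,0,2,0,1])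 (Tr.leaf [2,2,0,2,2,2,2,0,2,2,2,2,0,2,2,2,2,0,2,2,2,2,0,2,2])) (Tr.node (Tr.leaf [0,1,1,0,1,1,0,1,1,0,1,1,0,1,1,0,1,1,0,1,1,0,1,1]) (Tr.leaf [0,2,2,0,1,1,1,1,1,1,1,0,2,2,0,2,0,1,0,2,0,2,2,0,2,2]))) (Tr.node (Tr.node (Tr.leaf [1,0,2,2,2,2,0,1,1,1,1,0,2,2,2,2,0,1,1,1]) (Tr.leaf [1,1,0,2,2,2,2,2,2,2,0,1,1,0,1,1,0,1,1,0,1,0,2,0,1,0])) (Tr.node (Tr.leaf [1,1,1,1,1,0,2,2,2,2,2,0,1,1,1,1,1,0,2,2,2,2,2,0]) (Tr.leaf []))))) (Tr.node (Tr.node (Tr.node (Tr.node (Tr.leaf [2,0,2,0,2,0,2,0,2,0,2,0,2,0,2,0]) (Tr.leaf [1,0,1,1,1,1,0,1,1,1,1,0,1,1,1,1,0,1,1,1,1,0,1,1,1])) (Tr.node (Tr.leaf [2,0,1,0,1,0,2,0,1,0,2,0,2,0,1,0,1,0,2,0,1,0,2,0]) (Tr.leaf [0,2,0,2,2,0,2,2,0,2,2,0,1,1,1,1,1,1,1,0,2,2,0,2,0,1]))) (Tr.node (Tr.node (Tr.leaf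 [1,0,2,2,2,2,0,1,1,1,1,0,2,2,2,2,0,1,1,1]) (Tr.leaf [0,2,0,1,0,2,2,0,1,0,1,0,2,0,1,0,2,0,2,0,1,1,0,2,0,1])) (Tr.node (Tr.leaf [0,2,2,0,2,2,0,2,2,0,2,2,0,2,2,0,2,2,0,2,2,0,2,2]) (Tr.leaf [])))) (Tr.node (Tr.node (Tr.node (Tr.leaf [1,0,2,0,1,0,2,0,1,0,2,0,1,0,2,0,1,0,2,0]) (Tr.leaf [0,2,2,2,2,0,2,2,2,2,0,2,2,2,2,0,2,2,2,2,0,2,2,2,2])) (Tr.node (Tr.leaf [0,1,1,0,1,1,0,1,1,0,1,1,0,1,1,0,1,1,0,1,1,0,1,1]) (Tr.leaf [1,1,1,0,2,2,0,2,0,1,0,2,0,2,2,0,2,2,0,2,2,0,1,1,1,1]))) (Tr.node (Tr.node (Tr.leaf [2,2,2,2,2,2,2,2,2,2,2,2,2,2,2,2,2,2,2,2]) (Tr.leaf [2,2,0,1,1,0,1,1,0,1,1,0,1,0,2,0,1,0,1,1,0,2,2,2,2,2])) (Tr.node (Tr.leaf [2,2,2,0,1,1,1,1,1,0,2,2,2,2,2,0,1,1,1,1,1,0,2,2]) (Tr.leaf [])))))) (Tr.node (Tr.node (Tr.node (Tr.node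 (Tr.node (Tr.leaf [1,0,1,0,1,0,1,0,1,0,1,0,1,0,1,0]) (Tr.leaf [0,1,1,1,1,0,1,1,1,1,0,1,1,1,1,0,1,1,1,1,0,1,1,1,1])) (Tr.node (Tr.leaf [1,0,2,0,2,0,1,0,1,0,2,0,1,0,2,0,2,0,1,0,1,0,2,0]) (Tr.leaf [1,0,2,0,1,0,1,1,0,2,2,2,2,2,2,2,0,1,1,0,1,1,0,1,1,0]))) (Tr.node (Tr.node (Tr.leaf [0,1,1,1,1,0,2,2,2,2,0,1,1,1,1,0,2,2,2,2]) (Tr.leaf [0,2,0,1,0,2,0,1,0,2,2,0,1,0,1,0,2,0,1,0,2,0,2,0,1,1])) (Tr.node (Tr.leaf [0,2,2,0,2,2,0,2,2,0,2,2,0,2,2,0,2,2,0,2,2,0,2,2]) (Tr.leaf [])))) (Tr.node (Tr.node (Tr.node (Tr.leaf [0,1,0,2,0,1,0,2,0,1,0,2,0,1,0,2,0,1,0,2]) (Tr.leaf [2,0,2,2,2,2,0,2,2,2,2,0,2,2,2,2,0,2,2,2,2,0,2,2,2])) (Tr.node (Tr.leaf [1,0,1,1,0,1,1,0,1,1,0,1,1,0,1,1,0,1,1,0,1,1,0,1]) (Tr.leaf [1,1,1,1,1,1,1,0,2,2,0,2,0,1,0,2,0,2,2,0,2,2,0,2,2,0])))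 (Tr.node (Tr.node (Tr.leaf [1,1,1,1,1,1,1,1,1,1,1,1,1,1,1,1,1,1,1,1]) (Tr.leaf [2,2,2,2,2,2,0,1,1,0,1,1,0,1,1,0,1,0,2,0,1,0,1,1,0,2])) (Tr.node (Tr.leaf [1,0,2,2,2,2,2,0,1,1,1,1,1,0,2,2,2,2,2,0,1,1,1,1]) (Tr.leaf []))))) (Tr.node (Tr.node (Tr.node (Tr.node (Tr.leaf [2,0,2,0,2,0,2,0,2,0,2,0,2,0,2,0]) (Tr.leaf [1,0,1,1,1,1,0,1,1,1,1,0,1,1,1,1,0,1,1,1,1,0,1,1,1])) (Tr.node (Tr.leaf [2,0,2,0,1,0,1,0,2,0,1,0,2,0,2,0,1,0,1,0,2,0,1,0]) (Tr.leaf [2,0,2,2,0,2,2,0,1,1,1,1,1,1,1,0,2,2,0,2,0,1,0,2,0,2]))) (Tr.node (Tr.node (Tr.leaf [2,2,0,1,1,1,1,0,2,2,2,2,0,1,1,1,1,0,2,2]) (Tr.leaf [2,0,1,0,1,0,2,0,1,0,2,0,2,0,1,1,0,2,0,1,0,2,0,1,0,2])) (Tr.node (Tr.leaf [0,2,2,0,2,2,0,2,2,0,2,2,0,2,2,0,2,2,0,2,2,0,2,2]) (Tr.leaf [])))) (Tr.node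 (Tr.node (Tr.node (Tr.leaf [1,1,1,0,2,2,2,2,0,1,1,1,1,0,2,2,2,2,0,1]) (Tr.leaf [0,2,2,2,2,0,2,2,2,2,0,2,2,2,2,0,2,2,2,2,0,2,2,2,2])) (Tr.node (Tr.leaf [1,0,1,1,0,1,1,0,1,1,0,1,1,0,1,1,0,1,1,0,1,1,0,1]) (Tr.leaf [2,2,0,2,0,1,0,2,0,2,2,0,2,2,0,2,2,0,1,1,1,1,1,1,1,0]))) (Tr.node (Tr.node (Tr.leaf [2,2,2,2,2,2,2,2,2,2,2,2,2,2,2,2,2,2,2,2]) (Tr.leaf [1,0,1,1,0,1,1,0,1,0,2,0,1,0,1,1,0,2,2,2,2,2,2,2,0,1])) (Tr.node (Tr.leaf [1,1,1,1,1,0,2,2,2,2,2,0,1,1,1,1,1,0,2,2,2,2,2,0]) (Tr.leaf []))))))) (Tr.node (Tr.node (Tr.node (Tr.node (Tr.node (Tr.node (Tr.leaf [0,1,0,1,0,1,0,1,0,1,0,1,0,1,0,1]) (Tr.leaf [2,0,1,1,1,1,1,0,2,2,2,2,2,0,1,1,1,1,1,0,2,2,2,2])) (Tr.node (Tr.leaf [2,0,1,0,2,0,2,0,1,0,1,0,2,0,1,0,2,0,2,0,1,0,1,0]) (Tr.leaf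 [1,0,1,0,2,0,1,0,1,1,0,2,2,2,2,2,2,2,0,1,1,0,1,1,0,1]))) (Tr.node (Tr.node (Tr.leaf [2,2,0,1,1,1,1,0,2,2,2,2,0,1,1,1,1,0,2,2]) (Tr.leaf [1,1,0,2,0,1,0,2,0,1,0,2,2,0,1,0,1,0,2,0,1,0,2,0,2,0])) (Tr.node (Tr.leaf [0,2,2,0,2,2,0,2,2,0,2,2,0,2,2,0,2,2,0,2,2,0,2,2]) (Tr.leaf [1,2])))) (Tr.node (Tr.node (Tr.node (Tr.leaf [0,1,0,2,0,1,0,2,0,1,0,2,0,1,0,2,0,1,0,2]) (Tr.leaf [0,2,2,2,2,0,2,2,2,2,0,2,2,2,2,0,2,2,2,2,0,2,2,2,2])) (Tr.node (Tr.leaf [1,0,1,1,0,1,1,0,1,1,0,1,1,0,1,1,0,1,1,0,1,1,0,1]) (Tr.leaf [2,0,1,1,1,1,1,1,1,0,2,2,0,2,0,1,0,2,0,2,2,0,2,2,0,2]))) (Tr.node (Tr.node (Tr.leaf [1,1,1,1,1,1,1,1,1,1,1,1,1,1,1,1,1,1,1,1]) (Tr.leaf [0,2,2,2,2,2,2,2,0,1,1,0,1,1,0,1,1,0,1,0,2,0,1,0,1,1])) (Tr.node (Tr.leaf [1,1,1,0,2,2,2,2,2,0,1,1,1,1,1,0,2,2,2,2,2,0,1,1])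 (Tr.leaf []))))) (Tr.node (Tr.node (Tr.node (Tr.node (Tr.leaf [0,2,0,2,0,2,0,2,0,2,0,2,0,2,0,2]) (Tr.leaf [1,1,1,0,1,1,1,1,0,1,1,1,1,0,1,1,1,1,0,1,1,1,1,0,1])) (Tr.node (Tr.leaf [1,0,1,0,2,0,1,0,2,0,2,0,1,0,1,0,2,0,1,0,2,0,2,0]) (Tr.leaf [0,2,2,0,2,2,0,2,2,0,1,1,1,1,1,1,1,0,2,2,0,2,0,1,0,2]))) (Tr.node (Tr.node (Tr.leaf [2,2,2,2,0,1,1,1,1,0,2,2,2,2,0,1,1,1,1,0]) (Tr.leaf [0,2,2,0,1,0,1,0,2,0,1,0,2,0,2,0,1,1,0,2,0,1,0,2,0,1])) (Tr.node (Tr.leaf [0,2,2,0,2,2,0,2,2,0,2,2,0,2,2,0,2,2,0,2,2,0,2,2]) (Tr.leaf [])))) (Tr.node (Tr.node (Tr.node (Tr.leaf [0,1,1,1,1,0,2,2,2,2,0,1,1,1,1,0,2,2,2,2]) (Tr.leaf [2,2,0,2,2,2,2,0,2,2,2,2,0,2,2,2,2,0,2,2,2,2,0,2,2])) (Tr.node (Tr.leaf [1,0,1,1,0,1,1,0,1,1,0,1,1,0,1,1,0,1,1,0,1,1,0,1])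 (Tr.leaf [1,0,2,2,0,2,0,1,0,2,0,2,2,0,2,2,0,2,2,0,1,1,1,1,1,1]))) (Tr.node (Tr.node (Tr.leaf [2,2,2,2,2,2,2,2,2,2,2,2,2,2,2,2,2,2,2,2]) (Tr.leaf [0,1,1,0,1,1,0,1,1,0,1,0,2,0,1,0,1,1,0,2,2,2,2,2,2,2])) (Tr.node (Tr.leaf [2,0,1,1,1,1,1,0,2,2,2,2,2,0,1,1,1,1,1,0,2,2,2,2]) (Tr.leaf [])))))) (Tr.node (Tr.node (Tr.node (Tr.node (Tr.node (Tr.leaf [2,0,2,0,2,0,2,0,2,0,2,0,2,0,2,0]) (Tr.leaf [1,1,1,0,1,1,1,1,0,1,1,1,1,0,1,1,1,1,0,1,1,1,1,0,1])) (Tr.node (Tr.leaf [2,0,2,0,1,0,1,0,2,0,1,0,2,0,2,0,1,0,1,0,2,0,1,0]) (Tr.leaf [2,0,1,0,1,1,0,2,2,2,2,2,2,2,0,1,1,0,1,1,0,1,1,0,1,0]))) (Tr.node (Tr.node (Tr.leaf [1,1,1,0,2,2,2,2,0,1,1,1,1,0,2,2,2,2,0,1]) (Tr.leaf [0,1,0,2,0,1,0,2,2,0,1,0,1,0,2,0,1,0,2,0,2,0,1,1,0,2])) (Tr.node (Tr.leaf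 [0,2,2,0,2,2,0,2,2,0,2,2,0,2,2,0,2,2,0,2,2,0,2,2]) (Tr.leaf [])))) (Tr.node (Tr.node (Tr.node (Tr.leaf [1,0,2,0,1,0,2,0,1,0,2,0,1,0,2,0,1,0,2,0]) (Tr.leaf [2,2,0,2,2,2,2,0,2,2,2,2,0,2,2,2,2,0,2,2,2,2,0,2,2])) (Tr.node (Tr.leaf [1,1,0,1,1,0,1,1,0,1,1,0,1,1,0,1,1,0,1,1,0,1,1,0]) (Tr.leaf [1,1,1,1,1,0,2,2,0,2,0,1,0,2,0,2,2,0,2,2,0,2,2,0,1,1]))) (Tr.node (Tr.node (Tr.leaf [1,1,1,1,1,1,1,1,1,1,1,1,1,1,1,1,1,1,1,1]) (Tr.leaf [2,2,2,2,0,1,1,0,1,1,0,1,1,0,1,0,2,0,1,0,1,1,0,2,2,2])) (Tr.node (Tr.leaf [2,2,2,2,2,0,1,1,1,1,1,0,2,2,2,2,2,0,1,1,1,1,1,0]) (Tr.leaf []))))) (Tr.node (Tr.node (Tr.node (Tr.node (Tr.leaf [0,2,0,2,0,2,0,2,0,2,0,2,0,2,0,2]) (Tr.leaf [0,1,1,1,1,0,1,1,1,1,0,1,1,1,1,0,1,1,1,1,0,1,1,1,1])) (Tr.node (Tr.leaf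 [1,1,0,1,1,0,1,1,0,1,1,0,1,1,0,1,1,0,1,1,0,1,1,0]) (Tr.leaf [2,2,0,2,2,0,1,1,1,1,1,1,1,0,2,2,0,2,0,1,0,2,0,2,2,0]))) (Tr.node (Tr.node (Tr.leaf [0,2,2,2,2,0,1,1,1,1,0,2,2,2,2,0,1,1,1,1]) (Tr.leaf [1,0,1,1,0,2,2,2,2,2,2,2,0,1,1,0,1,1,0,1,1,0,1,0,2,0])) (Tr.node (Tr.leaf [2,0,2,2,0,2,2,0,2,2,0,2,2,0,2,2,0,2,2,0,2,2,0,2]) (Tr.leaf [])))) (Tr.node (Tr.node (Tr.node (Tr.leaf [1,0,2,2,2,2,0,1,1,1,1,0,2,2,2,2,0,1,1,1]) (Tr.leaf [0,1,0,1,0,2,0,1,0,2,0,2,0,1,1,0,2,0,1,0,2,0,1,0,2,2])) (Tr.node (Tr.leaf [1,1,0,1,1,0,1,1,0,1,1,0,1,1,0,1,1,0,1,1,0,1,1,0]) (Tr.leaf [0,2,0,1,0,2,0,2,2,0,2,2,0,2,2,0,1,1,1,1,1,1,1,0,2,2]))) (Tr.node (Tr.node (Tr.leaf [1,0,1,0,2,0,1,0,2,0,2,0,1,0,1,0,2,0,1,0,2,0,2,0]) (Tr.leaf [1,1,0,1,1,0,1,0,2,0,1,0,1,1,0,2,2,2,2,2,2,2,0,1,1,0]))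 (Tr.node (Tr.leaf [1,1,1,0,2,2,2,2,2,0,1,1,1,1,1,0,2,2,2,2,2,0,1,1]) (Tr.leaf [])))))))))

/-- The witnesses of the rotations. -/
noncomputable def witT : Tr (Nat × Nat × Bool) := (Tr.node (Tr.node (Tr.node (Tr.node (Tr.node (Tr.node (Tr.node (Tr.node (Tr.leaf (0,0,false)) (Tr.leaf (6,19,false))) (Tr.node (Tr.leaf (4,2,false)) (Tr.leaf (9,18,false)))) (Tr.node (Tr.node (Tr.leaf (2,5,false)) (Tr.leaf (8,2,false))) (Tr.node (Tr.leaf (5,23,false)) (Tr.leaf (9,24,true))))) (Tr.node (Tr.node (Tr.node (Tr.leaf (1,1,false)) (Tr.leaf (7,1,true))) (Tr.node (Tr.leaf (5,2,false)) (Tr.leaf (9,8,true)))) (Tr.node (Tr.node (Tr.leaf (2,6,true)) (Tr.leaf (9,2,false))) (Tr.node (Tr.leaf (6,0,false)) (Tr.leaf (0,0,false)))))) (Tr.node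 (Tr.node (Tr.node (Tr.node (Tr.leaf (0,1,true)) (Tr.leaf (7,3,false))) (Tr.node (Tr.leaf (4,10,false)) (Tr.leaf (9,0,true)))) (Tr.node (Tr.node (Tr.leaf (2,13,false)) (Tr.leaf (8,18,false))) (Tr.node (Tr.leaf (5,12,true)) (Tr.leaf (0,0,false))))) (Tr.node (Tr.node (Tr.node (Tr.leaf (1,19,false)) (Tr.leaf (7,13,true))) (Tr.node (Tr.leaf (5,11,false)) (Tr.leaf (9,16,true)))) (Tr.node (Tr.node (Tr.leaf (3,1,true)) (Tr.leaf (9,10,false))) (Tr.node (Tr.leaf (6,8,false)) (Tr.leaf (0,0,false))))))) (Tr.node (Tr.node (Tr.node (Tr.node (Tr.node (Tr.leaf (0,10,false)) (Tr.leaf (6,15,true))) (Tr.node (Tr.leaf (4,6,false)) (Tr.leaf (9,22,false)))) (Tr.node (Tr.node (Tr.leaf (2,9,false)) (Tr.leaf (8,14,false))) (Tr.node (Tr.leaf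 (5,3,true)) (Tr.leaf (10,2,false))))) (Tr.node (Tr.node (Tr.node (Tr.leaf (1,9,false)) (Tr.leaf (7,5,true))) (Tr.node (Tr.leaf (5,6,false)) (Tr.leaf (9,12,true)))) (Tr.node (Tr.node (Tr.leaf (3,9,false)) (Tr.leaf (9,6,false))) (Tr.node (Tr.leaf (6,4,false)) (Tr.leaf (0,0,false)))))) (Tr.node (Tr.node (Tr.node (Tr.node (Tr.leaf (0,6,true)) (Tr.leaf (7,13,false))) (Tr.node (Tr.leaf (4,17,false)) (Tr.leaf (9,4,true)))) (Tr.node (Tr.node (Tr.leaf (2,17,false)) (Tr.leaf (8,24,false))) (Tr.node (Tr.leaf (5,18,true)) (Tr.leaf (0,0,false))))) (Tr.node (Tr.node (Tr.node (Tr.leaf (2,1,false)) (Tr.leaf (7,18,true))) (Tr.node (Tr.leaf (5,18,false)) (Tr.leaf (9,20,true)))) (Tr.node (Tr.node (Tr.leaf (3,12,true)) (Tr.leaf (9,14,false)))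 (Tr.node (Tr.leaf (6,12,false)) (Tr.leaf (0,0,false)))))))) (Tr.node (Tr.node (Tr.node (Tr.node (Tr.node (Tr.node (Tr.leaf (0,2,false)) (Tr.leaf (6,22,false))) (Tr.node (Tr.leaf (4,4,false)) (Tr.leaf (9,20,false)))) (Tr.node (Tr.node (Tr.leaf (2,7,false)) (Tr.leaf (8,12,false))) (Tr.node (Tr.leaf (5,1,true)) (Tr.leaf (10,0,false))))) (Tr.node (Tr.node (Tr.node (Tr.leaf (1,3,false)) (Tr.leaf (7,3,true))) (Tr.node (Tr.leaf (5,4,false)) (Tr.leaf (9,10,true)))) (Tr.node (Tr.node (Tr.leaf (3,1,false)) (Tr.leaf (9,4,false))) (Tr.node (Tr.leaf (6,2,false)) (Tr.leaf (0,0,false)))))) (Tr.node (Tr.node (Tr.node (Tr.node (Tr.leaf (0,3,true)) (Tr.leaf (7,5,false))) (Tr.node (Tr.leaf (4,12,false)) (Tr.leaf (9,2,true)))) (Tr.node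 (Tr.node (Tr.leaf (2,15,false)) (Tr.leaf (8,20,false))) (Tr.node (Tr.leaf (5,16,true)) (Tr.leaf (0,0,false))))) (Tr.node (Tr.node (Tr.node (Tr.leaf (1,18,true)) (Tr.leaf (7,16,true))) (Tr.node (Tr.leaf (5,16,false)) (Tr.leaf (9,18,true)))) (Tr.node (Tr.node (Tr.leaf (3,9,true)) (Tr.leaf (9,12,false))) (Tr.node (Tr.leaf (6,10,false)) (Tr.leaf (0,0,false))))))) (Tr.node (Tr.node (Tr.node (Tr.node (Tr.node (Tr.leaf (0,14,false)) (Tr.leaf (7,1,false))) (Tr.node (Tr.leaf (4,8,false)) (Tr.leaf (9,24,false)))) (Tr.node (Tr.node (Tr.leaf (2,11,false)) (Tr.leaf (8,16,false))) (Tr.node (Tr.leaf (5,9,true)) (Tr.leaf (0,0,false))))) (Tr.node (Tr.node (Tr.node (Tr.leaf (1,15,false)) (Tr.leaf (7,11,true))) (Tr.node (Tr.leaf (5,9,false))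 (Tr.leaf (9,14,true)))) (Tr.node (Tr.node (Tr.leaf (3,15,false)) (Tr.leaf (9,8,false))) (Tr.node (Tr.leaf (6,6,false)) (Tr.leaf (0,0,false)))))) (Tr.node (Tr.node (Tr.node (Tr.node (Tr.leaf (0,9,true)) (Tr.leaf (7,17,false))) (Tr.node (Tr.leaf (5,0,false)) (Tr.leaf (9,6,true)))) (Tr.node (Tr.node (Tr.leaf (2,19,false)) (Tr.leaf (9,0,false))) (Tr.node (Tr.leaf (5,21,true)) (Tr.leaf (0,0,false))))) (Tr.node (Tr.node (Tr.node (Tr.leaf (2,3,false)) (Tr.leaf (7,21,true))) (Tr.node (Tr.leaf (5,21,false)) (Tr.leaf (9,22,true)))) (Tr.node (Tr.node (Tr.leaf (3,19,true)) (Tr.leaf (9,16,false))) (Tr.node (Tr.leaf (6,14,false)) (Tr.leaf (0,0,false))))))))) (Tr.node (Tr.node (Tr.node (Tr.node (Tr.node (Tr.node (Tr.node (Tr.leaf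 (0,1,false)) (Tr.leaf (6,20,false))) (Tr.node (Tr.leaf (4,3,false)) (Tr.leaf (9,19,false)))) (Tr.node (Tr.node (Tr.leaf (2,6,false)) (Tr.leaf (8,11,false))) (Tr.node (Tr.leaf (5,0,true)) (Tr.leaf (9,25,true))))) (Tr.node (Tr.node (Tr.node (Tr.leaf (1,2,false)) (Tr.leaf (7,2,true))) (Tr.node (Tr.leaf (5,3,false)) (Tr.leaf (9,9,true)))) (Tr.node (Tr.node (Tr.leaf (2,13,true)) (Tr.leaf (9,3,false))) (Tr.node (Tr.leaf (6,1,false)) (Tr.leaf (0,0,false)))))) (Tr.node (Tr.node (Tr.node (Tr.node (Tr.leaf (0,2,true)) (Tr.leaf (7,4,false))) (Tr.node (Tr.leaf (4,11,false)) (Tr.leaf (9,1,true)))) (Tr.node (Tr.node (Tr.leaf (2,14,false)) (Tr.leaf (8,19,false))) (Tr.node (Tr.leaf (5,14,true)) (Tr.leaf (0,0,false))))) (Tr.node (Tr.node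 (Tr.node (Tr.leaf (1,16,true)) (Tr.leaf (7,14,true))) (Tr.node (Tr.leaf (5,12,false)) (Tr.leaf (9,17,true)))) (Tr.node (Tr.node (Tr.leaf (3,3,true)) (Tr.leaf (9,11,false))) (Tr.node (Tr.leaf (6,9,false)) (Tr.leaf (0,0,false))))))) (Tr.node (Tr.node (Tr.node (Tr.node (Tr.node (Tr.leaf (0,11,false)) (Tr.leaf (7,0,false))) (Tr.node (Tr.leaf (4,7,false)) (Tr.leaf (9,23,false)))) (Tr.node (Tr.node (Tr.leaf (2,10,false)) (Tr.leaf (8,15,false))) (Tr.node (Tr.leaf (5,8,true)) (Tr.leaf (0,0,false))))) (Tr.node (Tr.node (Tr.node (Tr.leaf (1,12,false)) (Tr.leaf (7,8,true))) (Tr.node (Tr.leaf (5,8,false)) (Tr.leaf (9,13,true)))) (Tr.node (Tr.node (Tr.leaf (3,10,false)) (Tr.leaf (9,7,false))) (Tr.node (Tr.leaf (6,5,false)) (Tr.leaf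 (0,0,false)))))) (Tr.node (Tr.node (Tr.node (Tr.node (Tr.leaf (0,8,true)) (Tr.leaf (7,14,false))) (Tr.node (Tr.leaf (4,21,false)) (Tr.leaf (9,5,true)))) (Tr.node (Tr.node (Tr.leaf (2,18,false)) (Tr.leaf (8,25,false))) (Tr.node (Tr.leaf (5,20,true)) (Tr.leaf (0,0,false))))) (Tr.node (Tr.node (Tr.node (Tr.leaf (2,2,false)) (Tr.leaf (7,19,true))) (Tr.node (Tr.leaf (5,20,false)) (Tr.leaf (9,21,true)))) (Tr.node (Tr.node (Tr.leaf (3,15,true)) (Tr.leaf (9,15,false))) (Tr.node (Tr.leaf (6,13,false)) (Tr.leaf (0,0,false)))))))) (Tr.node (Tr.node (Tr.node (Tr.node (Tr.node (Tr.node (Tr.leaf (0,8,false)) (Tr.leaf (6,23,false))) (Tr.node (Tr.leaf (4,5,false)) (Tr.leaf (9,21,false)))) (Tr.node (Tr.node (Tr.leaf (2,8,false)) (Tr.leaf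 (8,13,false))) (Tr.node (Tr.leaf (5,2,true)) (Tr.leaf (10,1,false))))) (Tr.node (Tr.node (Tr.node (Tr.leaf (1,4,false)) (Tr.leaf (7,4,true))) (Tr.node (Tr.leaf (5,5,false)) (Tr.leaf (9,11,true)))) (Tr.node (Tr.node (Tr.leaf (3,7,false)) (Tr.leaf (9,5,false))) (Tr.node (Tr.leaf (6,3,false)) (Tr.leaf (0,0,false)))))) (Tr.node (Tr.node (Tr.node (Tr.node (Tr.leaf (0,5,true)) (Tr.leaf (7,12,false))) (Tr.node (Tr.leaf (4,13,false)) (Tr.leaf (9,3,true)))) (Tr.node (Tr.node (Tr.leaf (2,16,false)) (Tr.leaf (8,23,false))) (Tr.node (Tr.leaf (5,17,true)) (Tr.leaf (0,0,false))))) (Tr.node (Tr.node (Tr.node (Tr.leaf (2,0,false)) (Tr.leaf (7,17,true))) (Tr.node (Tr.leaf (5,17,false)) (Tr.leaf (9,19,true)))) (Tr.node (Tr.node (Tr.leaf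 (3,11,true)) (Tr.leaf (9,13,false))) (Tr.node (Tr.leaf (6,11,false)) (Tr.leaf (0,0,false))))))) (Tr.node (Tr.node (Tr.node (Tr.node (Tr.node (Tr.leaf (0,0,true)) (Tr.leaf (7,2,false))) (Tr.node (Tr.leaf (4,9,false)) (Tr.leaf (9,25,false)))) (Tr.node (Tr.node (Tr.leaf (2,12,false)) (Tr.leaf (8,17,false))) (Tr.node (Tr.leaf (5,11,true)) (Tr.leaf (0,0,false))))) (Tr.node (Tr.node (Tr.node (Tr.leaf (1,17,false)) (Tr.leaf (7,12,true))) (Tr.node (Tr.leaf (5,10,false)) (Tr.leaf (9,15,true)))) (Tr.node (Tr.node (Tr.leaf (3,18,false)) (Tr.leaf (9,9,false))) (Tr.node (Tr.leaf (6,7,false)) (Tr.leaf (0,0,false)))))) (Tr.node (Tr.node (Tr.node (Tr.node (Tr.leaf (0,13,true)) (Tr.leaf (7,20,false))) (Tr.node (Tr.leaf (5,1,false))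 (Tr.leaf (9,7,true)))) (Tr.node (Tr.node (Tr.leaf (2,4,true)) (Tr.leaf (9,1,false))) (Tr.node (Tr.leaf (5,22,true)) (Tr.leaf (0,0,false))))) (Tr.node (Tr.node (Tr.node (Tr.leaf (2,4,false)) (Tr.leaf (8,0,false))) (Tr.node (Tr.leaf (5,22,false)) (Tr.leaf (9,23,true)))) (Tr.node (Tr.node (Tr.leaf (4,1,false)) (Tr.leaf (9,17,false))) (Tr.node (Tr.leaf (6,15,false)) (Tr.leaf (0,0,false))))))))))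

/-- The subgroup rotations. -/
noncomputable def srotT : Tr (List Nat × Nat × List Nat) := (Tr.node (Tr.node (Tr.leaf ([1,0,1,1,1,1],1,[0,2])) (Tr.leaf ([2,0,1,0,2,0,1,1],0,[2,0,2]))) (Tr.node (Tr.leaf ([2,0,1,1],0,[2,2,0,1])) (Tr.leaf ([],0,[]))))

/-- The certificate. -/
noncomputable def cert : Cert :=
  mkCert 3 61584 153671 9 229 232 5 31 236 50 150 218 1125899906842623 295147905179352825855 18 16 262143 65535 34 32 3 ctree.get rotT.get srotT.get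

/-- The relators. -/
def rels : List (List Nat) :=
  [[0,1,0,1,0,1,0,1,0,1,0,1,0,1,0,1],
   [0,1,0,2,0,1,0,2,0,1,0,2,0,1,0,2,0,1,0,2],
   [0,1,1,1,1,0,2,2,2,2,0,1,1,1,1,0,2,2,2,2],
   [1,1,1,1,1,1,1,1,1,1,1,1,1,1,1,1,1,1,1,1],
   [0,1,0,1,0,2,0,1,0,2,0,2,0,1,0,1,0,2,0,1,0,2,0,2],
   [0,1,1,0,1,1,0,1,1,0,1,1,0,1,1,0,1,1,0,1,1,0,1,1],
   [0,1,1,1,1,1,0,2,2,2,2,2,0,1,1,1,1,1,0,2,2,2,2,2],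
   [0,1,1,1,1,0,1,1,1,1,0,1,1,1,1,0,1,1,1,1,0,1,1,1,1],
   [0,1,0,1,0,2,0,1,0,2,0,2,0,1,1,0,2,0,1,0,2,0,1,0,2,2],
   [0,1,0,1,1,0,2,2,2,2,2,2,2,0,1,1,0,1,1,0,1,1,0,1,0,2]]

/-- The words of the subgroup. -/
def subs : List (List Nat) :=
  [[1,0,1,1,1,1,1,0,2],
   [2,0,1,1,0,2,2,0,1],
   [2,0,1,0,2,0,1,1,0,2,0,2]]

end Cfsg.Agent.Lib.CosetCert.D.Ru.Lv1.Tab
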